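import Mathlib

/-!
# Prime power factorisations attached to coprime solvable actions, and counting conjugates
-/

namespace CfsgLib.HallCount

/-- `x` is a product of finitely many numbers with the property `P`. -/
def Fac (P : ℕ → Prop) (x : ℕ) : Prop := ∃ (k : ℕ) (f : Fin k → ℕ), x = ∏ i, f i ∧ ∀ i, P (f i)

theorem fac_one (P : ℕ → Prop) : Fac P 1 := ⟨0, Fin.elim0, by simp, fun i => i.elim0⟩

theorem fac_self {P : ℕ → Prop} {x : ℕ} (h : P x) : Fac P x :=
  ⟨1, fun _ => x, by simp, fun _ => h⟩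

theorem Fac.mul {P : ℕ → Prop} {x y : ℕ} (hx : Fac P x) (hy : Fac P y) : Fac P (x * y) := by
  obtain ⟨k, f, rfl, hf⟩ := hx
  obtain ⟨l, g, rfl, hg⟩ := hy
  exact ⟨k + l, Fin.append f g, by simp [Fin.prod_univ_add],
    Fin.addCases (fun i => by simpa using hf i) (fun i => by simpa using hg i)⟩

theorem Fac.mono {P P' : ℕ → Prop} {x : ℕ} (h : ∀ y, P y → P' y) (hx : Fac P x) : Fac P' x := by
  obtain ⟨k, f, hf, hP⟩ := hx
  exact ⟨k, f, hf, fun i => h _ (hP i)⟩

variable {G : Type*} [Group G]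

theorem exists_normal_prime_index {H : Type*} [Group H] [Finite H] [Nontrivial H]
    [Group.IsSolvable H] :
    ∃ K : Subgroup H, K.Normal ∧ ∃ p, p.Prime ∧ K.index = p ∧
      ∃ h, h ^ p ∈ K ∧ K ⊔ Subgroup.zpowers h = ⊤ := by
  have hlt := Group.IsSolvable.commutator_lt_top_of_nontrivial H
  obtain ⟨K, hK, hle⟩ := (eq_top_or_exists_le_coatom (commutator H)).resolve_left hlt.ne
  have hKn : K.Normal := ⟨fun n hn g => by
    have e : g * n * g⁻¹ = (g * n * g⁻¹ * n⁻¹) * n := by group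
    rw [e]
    exact mul_mem (hle (Subgroup.commutator_mem_commutator (Subgroup.mem_top g) (Subgroup.mem_top n)))
      hn⟩
  refine ⟨K, hKn, ?_⟩
  have hne : Nat.card (H ⧸ K) ≠ 1 := by
    rw [← Subgroup.index_eq_card, Ne, Subgroup.index_eq_one]
    exact hK.1
  obtain ⟨p, hp, hd⟩ := Nat.exists_prime_and_dvd hne
  have := Fact.mk hp
  obtain ⟨x, hx⟩ := exists_prime_orderOf_dvd_card' (G := H ⧸ K) p hd
  obtain ⟨h, rfl⟩ := QuotientGroup.mk_surjective x
  have hhK : h ∉ K := fun e => by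
    rw [(QuotientGroup.eq_one_iff h).2 e, orderOf_one] at hx
    exact hp.one_lt.ne hx
  have hsup : K ⊔ Subgroup.zpowers h = ⊤ := hK.2 _ (SetLike.lt_iff_le_and_exists.2
    ⟨le_sup_left, h, Subgroup.mem_sup_right (Subgroup.mem_zpowers h), hhK⟩)
  refine ⟨p, hp, ?_, h, ?_, hsup⟩
  · have htop : Subgroup.zpowers (h : H ⧸ K) = ⊤ := by
      have := congrArg (Subgroup.map (QuotientGroup.mk' K)) hsup
      rwa [Subgroup.map_sup, QuotientGroup.map_mk'_self, bot_sup_eq, MonoidHom.map_zpowers,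
        Subgroup.map_top_of_surjective _ (QuotientGroup.mk'_surjective K)] at this
    rw [Subgroup.index_eq_card, ← Subgroup.card_top, ← htop, Nat.card_zpowers, hx]
  · rw [← QuotientGroup.eq_one_iff, QuotientGroup.mk_pow, ← hx, pow_orderOf_eq_one]

/-- A solvable group acting coprimely on a `q`-group: the index of the fixed points factors. -/
theorem fac_relIndex_centralizer [Finite G] {q : ℕ} (hq : q.Prime) {M : Subgroup G}
    (hM : IsPGroup q M) : ∀ (n : ℕ) (H : Subgroup G), Nat.card H = n → Group.IsSolvable H →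
    H ≤ Subgroup.normalizer (M : Set G) → ¬ q ∣ Nat.card H →
    Fac (fun x => (∃ e, x = q ^ e) ∧ x ∣ Nat.card M ∧ ∃ p, p.Prime ∧ p ∣ Nat.card H ∧ x ≡ 1 [MOD p])
      ((Subgroup.centralizer (H : Set G)).relIndex M) := by
  classical
  intro n
  induction n using Nat.strong_induction_on with
  | _ n ih => ?_
  intro H hn hsolv hnorm hqH
  by_cases htriv : Subsingleton H
  · have : Subgroup.centralizer (H : Set G) = ⊤ := by
      refine eq_top_iff.2 fun g _ => Subgroup.mem_centralizer_iff.2 fun x hx => ?_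
      have e : x = 1 := congrArg Subtype.val (Subsingleton.elim (⟨x, hx⟩ : H) 1)
      rw [e, one_mul, mul_one]
    rw [this, Subgroup.relIndex_top_left]
    exact fac_one _
  have : Nontrivial H := not_subsingleton_iff_nontrivial.1 htriv
  obtain ⟨K, hKn, p, hp, hKp, h, hhp, hsup⟩ := exists_normal_prime_index (H := H)
  have := Fact.mk hp
  set H0 := K.map H.subtype with hH0
  have hH0le : H0 ≤ H := Subgroup.map_subtype_le K
  have hcard : Nat.card H0 * p = Nat.card H := by
    rw [hH0, Subgroup.card_map_of_injective H.subtype_injective, ← hKp, Subgroup.card_mul_index]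
  have hpH : p ∣ Nat.card H := ⟨Nat.card H0, by rw [← hcard, mul_comm]⟩
  have hsolv0 : Group.IsSolvable H0 :=
    solvable_of_solvable_injective (f := Subgroup.inclusion hH0le) (Subgroup.inclusion_injective hH0le)
  have hdvd0 : Nat.card H0 ∣ Nat.card H := ⟨p, hcard.symm⟩
  have h0 := ih _ (by
      rw [← hn, ← hcard]
      exact lt_mul_of_one_lt_right Nat.card_pos hp.one_lt) H0 rfl hsolv0
    (hH0le.trans hnorm) (fun hd => hqH (hd.trans hdvd0))
  set C0 := M ⊓ Subgroup.centralizer (H0 : Set G) with hC0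
  set C := M ⊓ Subgroup.centralizer (H : Set G) with hC
  have hCle : C ≤ C0 := inf_le_inf_left M (Subgroup.centralizer_le hH0le)
  have hfac : (Subgroup.centralizer (H : Set G)).relIndex M
      = C.relIndex C0 * (Subgroup.centralizer (H0 : Set G)).relIndex M := by
    rw [← Subgroup.inf_relIndex_left M, ← Subgroup.inf_relIndex_left M (Subgroup.centralizer (H0 : Set G))]
    exact (Subgroup.relIndex_mul_relIndex C C0 M hCle inf_le_left).symm
  rw [hfac]
  refine Fac.mul (fac_self ?_) (h0.mono fun y ⟨h1, h2, r, hr, hrd, hy⟩ =>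
    ⟨h1, h2, r, hr, hrd.trans hdvd0, hy⟩)
  -- the new factor
  have hC0p : IsPGroup q C0 := hM.to_le inf_le_left
  have := Fact.mk hq
  obtain ⟨a, ha⟩ := IsPGroup.iff_card.1 hC0p
  have hd : C.relIndex C0 ∣ Nat.card C0 := Subgroup.relIndex_dvd_card C C0
  obtain ⟨e, -, he⟩ := (Nat.dvd_prime_pow hq).1 (ha ▸ hd)
  refine ⟨⟨e, he⟩, hd.trans (Subgroup.card_dvd_of_le inf_le_left), p, hp, hpH, ?_⟩
  -- counting fixed points of the conjugation by `h`
  have hpres : ∀ k : H, ∀ x ∈ C0, (k : G) * x * (k : G)⁻¹ ∈ C0 := by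
    intro k x hx
    refine ⟨(Subgroup.mem_normalizer_iff.1 (hnorm k.2) x).1 hx.1,
      Subgroup.mem_centralizer_iff.2 ?_⟩
    rintro _ ⟨y, hy, rfl⟩
    have hy' : k⁻¹ * y * k ∈ K := by simpa using hKn.conj_mem y hy k⁻¹
    have h2 := Subgroup.mem_centralizer_iff.1 hx.2 _ ⟨_, hy', rfl⟩
    simp only [Subgroup.coe_subtype, Subgroup.coe_mul, InvMemClass.coe_inv] at h2 ⊢
    calc (y : G) * ((k : G) * x * (k : G)⁻¹) = k * (((k : G)⁻¹ * y * k) * x) * (k : G)⁻¹ := by group
      _ = k * (x * ((k : G)⁻¹ * y * k)) * (k : G)⁻¹ := by rw [h2]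
      _ = k * x * (k : G)⁻¹ * y := by group
  let σ : Equiv.Perm C0 :=
    { toFun := fun x => ⟨(h : G) * x * (h : G)⁻¹, hpres h x x.2⟩
      invFun := fun x => ⟨(h : G)⁻¹ * x * h, by simpa using hpres h⁻¹ x x.2⟩
      left_inv := fun x => Subtype.ext (by group)
      right_inv := fun x => Subtype.ext (by group) }
  have hiter : ∀ (i : ℕ) (x : C0), (((σ ^ i) x : C0) : G) = (h : G) ^ i * x * ((h : G) ^ i)⁻¹ := by
    intro i
    induction i with
    | zero => intro x; simp
    | succ i ih' =>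
      intro x
      rw [pow_succ', Equiv.Perm.mul_apply]
      change (h : G) * ((σ ^ i) x : C0) * (h : G)⁻¹ = _
      rw [ih', pow_succ']; group
  have hσp : σ ^ p = 1 := Equiv.ext fun x => Subtype.ext (by
    rw [hiter]
    change (h : G) ^ p * (x : G) * ((h : G) ^ p)⁻¹ = x
    rw [Subgroup.mem_centralizer_iff.1 x.2.2 ((h : G) ^ p) ⟨_, hhp, by simp⟩, mul_inv_cancel_right])
  have hZ : IsPGroup p (Subgroup.zpowers σ) := by
    intro g
    obtain ⟨i, hi⟩ := Subgroup.mem_zpowers_iff.1 g.2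
    refine ⟨1, Subtype.ext ?_⟩
    rw [pow_one, SubgroupClass.coe_pow, ← hi, ← zpow_natCast, ← zpow_mul, mul_comm, zpow_mul,
      zpow_natCast, hσp, one_zpow]
    rfl
  have hfix : Nat.card (MulAction.fixedPoints (Subgroup.zpowers σ) C0) = Nat.card C := by
    refine Nat.card_congr
      { toFun := fun x => ⟨(x.1 : G), x.1.2.1, Subgroup.mem_centralizer_iff.2 fun y hy => ?_⟩
        invFun := fun x => ⟨⟨x.1, hCle x.2⟩, ?_⟩
        left_inv := fun _ => rfl
        right_inv := fun _ => rfl }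
    · have hx : Commute (h : G) (x.1 : G) := by
        have h1 : (h : G) * (x.1 : G) * (h : G)⁻¹ = (x.1 : G) :=
          congrArg Subtype.val (x.2 ⟨σ, Subgroup.mem_zpowers σ⟩)
        exact mul_inv_eq_iff_eq_mul.1 h1
      have hmem : (⟨y, hy⟩ : H) ∈ K ⊔ Subgroup.zpowers h := hsup ▸ Subgroup.mem_top _
      obtain ⟨k, hk, z, hz, hkz⟩ := Subgroup.mem_sup_of_normal_left.1 hmem
      obtain ⟨i, rfl⟩ := Subgroup.mem_zpowers_iff.1 hz
      have e : y = (k : G) * (h : G) ^ i := by
        rw [← show ((k * h ^ i : H) : G) = y from congrArg Subtype.val hkz]; simp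
      rw [e]
      exact ((show Commute (k : G) (x.1 : G) from Subgroup.mem_centralizer_iff.1 x.1.2.2 _ ⟨k, hk, rfl⟩).mul_left (hx.zpow_left i)).eq
    · rintro ⟨g, hg⟩
      have hσx : σ ⟨x.1, hCle x.2⟩ = ⟨x.1, hCle x.2⟩ := Subtype.ext (by
        change (h : G) * x.1 * (h : G)⁻¹ = x.1
        rw [Subgroup.mem_centralizer_iff.1 x.2.2 _ h.2, mul_inv_cancel_right])
      exact smul_eq_self_of_mem_zpowers (α := C0) hg hσx
  have hmod := hZ.card_modEq_card_fixedPoints (α := C0)
  rw [hfix, ← Subgroup.relIndex_bot_left C0,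
    ← Subgroup.relIndex_mul_relIndex ⊥ C C0 bot_le hCle, Subgroup.relIndex_bot_left] at hmod
  have hcop : Nat.gcd p (Nat.card C) = 1 := by
    obtain ⟨b, hb⟩ := IsPGroup.iff_card.1 (hC0p.to_le hCle)
    rw [hb]
    refine Nat.Coprime.pow_right b ((Nat.coprime_primes hp hq).2 ?_)
    rintro rfl
    exact hqH hpH
  exact Nat.ModEq.cancel_left_of_coprime hcop (by rwa [mul_one])

end CfsgLib.HallCount
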